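import Groth.Agent.Lib.FibreLocus.PointFibre

/-!
# Smoothness at a point: fibre criterion and flat base change
-/

universe u

open CategoryTheory CategoryTheory.Limits AlgebraicGeometry

namespace Groth.Agent.SmoothPt12

open FibreLocus

theorem smoothPt_iff_mem {X Y : Scheme.{u}} (f : X ⟶ Y) [LocallyOfFinitePresentation f] (x : X) :
    SmoothPt f x ↔ x ∈ f.smoothLocus :=
  Descend.smooth_nhd_iff_mem_smoothLocus f x

/-- Membership in `fibSet f (𝟙)` is read off any field valued point of the base. -/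
theorem mem_fibSet_id_iff {Q : ∀ {X Y : Scheme.{u}}, (X ⟶ Y) → X → Prop} (hQ : IsPtLocal Q)
    {X Y : Scheme.{u}} (f : X ⟶ Y) [LocallyOfFinitePresentation f] (K : Type u) [Field K]
    (τ : Spec (.of K) ⟶ Y) {XK : Scheme.{u}} {qX : XK ⟶ X} {fK : XK ⟶ Spec (.of K)}
    (hX : IsPullback qX fK f τ) (z : XK) :
    qX z ∈ fibSet Q f (𝟙 Y) ↔ Q fK z :=
  mem_fibSet_iff_of_field f (𝟙 Y) hQ K τ (qY := τ) (gK := 𝟙 _) IsPullback.of_id_fst.flip hX z

/-- Smooth at a point iff flat and smooth in the fibre. -/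
theorem smoothPt_iff_flat_and_fibSet {X Y : Scheme.{u}} (f : X ⟶ Y) [LocallyOfFinitePresentation f]
    (x : X) : SmoothPt f x ↔ FlatPt f x ∧ x ∈ fibSet SmoothPt f (𝟙 Y) :=
  ⟨fun h => ⟨smoothPt_flatPt h, mem_fibSet_of_pt isPtLocal_smoothPt f (𝟙 Y) x h⟩,
    fun h => smoothPt_of_flatPt_of_mem_fibSet f (𝟙 Y) x h.1 h.2⟩

/-- Smoothness at a point of a flat morphism can be tested after any base change. -/
theorem smoothPt_baseChange_iff {P X Y Y' : Scheme.{u}} {a : P ⟶ X} {b : P ⟶ Y'} {f : X ⟶ Y}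
    {g : Y' ⟶ Y} (hP : IsPullback a b f g) [LocallyOfFinitePresentation f] (z : P)
    (hflat : FlatPt f (a z) ∨ FlatPt g (b z)) : SmoothPt b z ↔ SmoothPt f (a z) := by
  refine ⟨fun h => ?_, isPtLocal_smoothPt.bc hP z⟩
  rcases hflat with hf | hg
  · haveI : LocallyOfFinitePresentation b := MorphismProperty.of_isPullback hP ‹_›
    rw [smoothPt_iff_flat_and_fibSet]
    refine ⟨hf, ?_⟩
    have h0 := ((smoothPt_iff_flat_and_fibSet b z).1 h).2
    rw [fibSet_baseChange f (𝟙 Y) isPtLocal_smoothPt (qY := g) (gT := 𝟙 Y') (σ := g)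
      IsPullback.of_id_fst.flip hP] at h0
    exact h0
  · exact Descend.smooth_nhd_of_baseChange_flatAt hP z hg h

theorem unrPt_comp_right_iff {X Y Z : Scheme.{u}} (e : X ⟶ Y) (i : Y ⟶ Z) [IsOpenImmersion i]
    (x : X) : UnrPt (e ≫ i) x ↔ UnrPt e x := by
  constructor
  · rintro ⟨U, hx, hU⟩
    refine ⟨U, hx, ?_⟩
    haveI : FormallyUnramified ((U.ι ≫ e) ≫ i) := by rw [Category.assoc]; exact hU
    exact FormallyUnramified.of_comp (U.ι ≫ e) i
  · rintro ⟨U, hx, hU⟩
    refine ⟨U, hx, ?_⟩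
    rw [← Category.assoc]
    exact MorphismProperty.comp_mem @FormallyUnramified _ _ hU inferInstance

open TensorProduct in
theorem unramifiedLocus_baseChange {A B A' : Type u} [CommRing A] [CommRing B] [CommRing A']
    [Algebra A B] [Algebra A A'] [Algebra.FiniteType A B] (q' : PrimeSpectrum (A' ⊗[A] B))
    (h : q' ∈ Algebra.unramifiedLocus A' (A' ⊗[A] B)) :
    PrimeSpectrum.comap (Algebra.TensorProduct.includeRight (R := A) (A := A') (B := B)).toRingHom q'
      ∈ Algebra.unramifiedLocus A B := by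
  letI : Algebra B (A' ⊗[A] B) := Algebra.TensorProduct.rightAlgebra
  rw [Algebra.unramifiedLocus_eq_compl_support] at h ⊢
  intro hsupp
  rw [Module.mem_support_iff_nontrivial_residueField_tensorProduct] at hsupp
  let C' := A' ⊗[A] B
  let qq := PrimeSpectrum.comap (Algebra.TensorProduct.includeRight (R := A) (A := A') (B := B)).toRingHom q'
  haveI : qq.asIdeal = q'.asIdeal.under B := rfl
  let L := q'.asIdeal.ResidueField
  let k := qq.asIdeal.ResidueField
  letI : Algebra k L := (Ideal.ResidueField.map qq.asIdeal q'.asIdeal (algebraMap B C') rfl).toAlgebra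
  haveI : IsScalarTower B k L := IsScalarTower.of_algebraMap_eq fun x => by
    rw [RingHom.algebraMap_toAlgebra, Ideal.ResidueField.map_algebraMap,
      ← IsScalarTower.algebraMap_apply B C' L]
  have h0 : Subsingleton (L ⊗[B] Ω[B⁄A]) := by
    have hΩ : Subsingleton (L ⊗[C'] Ω[C'⁄A']) := by
      have hns : q' ∉ Module.support C' Ω[C'⁄A'] := h
      refine ⟨fun a b => ?_⟩
      suffices ∀ y : L ⊗[C'] Ω[C'⁄A'], y = 0 by rw [this a, this b]
      intro y
      induction y using TensorProduct.induction_on with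
      | zero => rfl
      | add y₁ y₂ e₁ e₂ => rw [e₁, e₂, add_zero]
      | tmul l w =>
        obtain ⟨s, hs, hsw⟩ := Module.notMem_support_iff'.1 hns w
        have hu : IsUnit (algebraMap C' L s) := isUnit_iff_ne_zero.2 fun h0 => hs
          ((Ideal.ker_algebraMap_residueField q'.asIdeal).le (show s ∈ RingHom.ker (algebraMap C' L) from h0))
        obtain ⟨t, ht⟩ := hu.exists_left_inv
        rw [← one_mul l, ← ht, mul_assoc, mul_comm _ l, ← mul_assoc, mul_comm (t * l), ← Algebra.smul_def,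
          TensorProduct.smul_tmul, hsw, TensorProduct.tmul_zero]
    haveI : Algebra.IsPushout A A' B C' := inferInstance
    exact ((AlgebraTensorModule.cancelBaseChange B C' L L Ω[B⁄A]).symm ≪≫ₗ
      TensorProduct.AlgebraTensorModule.congr (LinearEquiv.refl L L)
        (KaehlerDifferential.tensorKaehlerEquiv A A' B C')).subsingleton
  haveI : Module.FaithfullyFlat k L := inferInstance
  haveI : Subsingleton (L ⊗[k] (k ⊗[B] Ω[B⁄A])) :=
    (AlgebraTensorModule.cancelBaseChange B k L L Ω[B⁄A]).subsingleton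
  exact not_nontrivial_iff_subsingleton.2 (Module.FaithfullyFlat.lTensor_reflects_triviality k L _) hsupp

open TensorProduct in
/-- Unramifiedness at a point descends along any base change. -/
theorem unrPt_of_baseChange {P X Y Y' : Scheme.{u}} {fst : P ⟶ X} {snd : P ⟶ Y'} {f : X ⟶ Y}
    {g : Y' ⟶ Y} (hP : IsPullback fst snd f g) [LocallyOfFiniteType f] (x' : P)
    (h : UnrPt snd x') : UnrPt f (fst x') := by
  obtain ⟨U, hU, hyU, -⟩ :=
    exists_isAffineOpen_mem_and_subset (X := Y) (x := f (fst x')) (U := ⊤) trivial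
  obtain ⟨V, hV, hxV, hVU⟩ :=
    exists_isAffineOpen_mem_and_subset (X := X) (x := fst x') (U := f ⁻¹ᵁ U) hyU
  have hyU' : g (snd x') ∈ U := by
    rw [← Scheme.Hom.comp_apply, ← hP.w, Scheme.Hom.comp_apply]; exact hyU
  obtain ⟨U', hU', hyU'', hUU⟩ :=
    exists_isAffineOpen_mem_and_subset (X := Y') (x := snd x') (U := g ⁻¹ᵁ U) hyU'
  have hft := f.finiteType_appLE hU hV hVU
  algebraize [(f.appLE U V hVU).hom, (g.appLE U U' hUU).hom]
  let A := Γ(Y, U)
  let B := Γ(X, V)
  let A' := Γ(Y', U')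
  let a := Spec.map (g.appLE U U' hUU)
  let b := Spec.map (f.appLE U V hVU)
  have ha : a ≫ hU.fromSpec = hU'.fromSpec ≫ g := IsAffineOpen.SpecMap_appLE_fromSpec g hU hU' hUU
  have hb : b ≫ hU.fromSpec = hV.fromSpec ≫ f := IsAffineOpen.SpecMap_appLE_fromSpec f hU hV hVU
  let j : pullback a b ⟶ P := hP.lift (pullback.snd a b ≫ hV.fromSpec)
    (pullback.fst a b ≫ hU'.fromSpec)
    (by rw [Category.assoc, ← hb, ← pullback.condition_assoc, ha, ← Category.assoc])
  haveI : IsOpenImmersion j := by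
    have : j = pullback.map a b g f hU'.fromSpec hV.fromSpec hU.fromSpec ha hb ≫
        (IsPullback.isoPullback hP.flip).inv := by
      apply hP.hom_ext <;> simp [j, pullback.lift_fst, pullback.lift_snd]
    rw [this]; infer_instance
  obtain ⟨zV, hzV⟩ : fst x' ∈ Set.range hV.fromSpec := by rw [hV.range_fromSpec]; exact hxV
  obtain ⟨zU, hzU⟩ : snd x' ∈ Set.range hU'.fromSpec := by rw [hU'.range_fromSpec]; exact hyU''
  have hmap : j = pullback.map a b g f hU'.fromSpec hV.fromSpec hU.fromSpec ha hb ≫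
      (IsPullback.isoPullback hP.flip).inv := by
    apply hP.hom_ext <;> simp [j, pullback.lift_fst, pullback.lift_snd]
  obtain ⟨z, hz⟩ : x' ∈ Set.range j := by
    have h1 : (IsPullback.isoPullback hP.flip).hom x' ∈
        Set.range (pullback.map a b g f hU'.fromSpec hV.fromSpec hU.fromSpec ha hb) := by
      rw [Scheme.Pullback.range_map]
      constructor
      · exact ⟨zU, by rw [hzU, ← Scheme.Hom.comp_apply, IsPullback.isoPullback_hom_fst]⟩
      · exact ⟨zV, by rw [hzV, ← Scheme.Hom.comp_apply, IsPullback.isoPullback_hom_snd]⟩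
    obtain ⟨z, hz⟩ := h1
    refine ⟨z, ?_⟩
    rw [hmap, Scheme.Hom.comp_apply, hz, ← Scheme.Hom.comp_apply, Iso.hom_inv_id]
    rfl
  let e : pullback a b ≅ Spec (.of (A' ⊗[A] B)) := pullbackSpecIso A A' B
  let iA := Spec.map (CommRingCat.ofHom (algebraMap A' (A' ⊗[A] B)))
  have he : e.inv ≫ pullback.fst a b = iA := pullbackSpecIso_inv_fst' A A' B
  have hsnd : e.hom ≫ Spec.map (CommRingCat.ofHom
      (Algebra.TensorProduct.includeRight (R := A) (A := A') (B := B)).toRingHom) = pullback.snd a b :=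
    pullbackSpecIso_hom_snd A A' B
  rw [← hz] at h ⊢
  obtain ⟨z', rfl⟩ : ∃ z', e.inv z' = z := ⟨e.hom z, by
    rw [← Scheme.Hom.comp_apply, Iso.hom_inv_id]; rfl⟩
  rw [← Scheme.Hom.comp_apply] at h
  have h1 : UnrPt ((e.inv ≫ j) ≫ snd) z' :=
    (isPtLocal_unrPt.open_source _ snd inferInstance z').2 h
  have h2 : (e.inv ≫ j) ≫ snd = iA ≫ hU'.fromSpec := by simp [← he, j]
  rw [h2, unrPt_comp_right_iff] at h1
  haveI : Algebra.FiniteType A' (A' ⊗[A] B) := inferInstance
  have h3 := unramifiedLocus_baseChange _ ((unrPt_specT_iff (R := A') (S := A' ⊗[A] B) z').1 h1)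
  have h4 : UnrPt b (pullback.snd a b (e.inv z')) := by
    rw [← hsnd, ← Scheme.Hom.comp_apply, Iso.inv_hom_id_assoc]
    exact (unrPt_specT_iff (R := A) (S := B) _).2 h3
  rw [← Scheme.Hom.comp_apply j fst, hP.lift_fst, Scheme.Hom.comp_apply]
  rw [← isPtLocal_unrPt.open_source hV.fromSpec f inferInstance, ← hb, unrPt_comp_right_iff]
  exact h4

/-- Unramifiedness at a point can be tested after any base change. -/
theorem unrPt_baseChange_iff {P X Y Y' : Scheme.{u}} {a : P ⟶ X} {b : P ⟶ Y'} {f : X ⟶ Y}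
    {g : Y' ⟶ Y} (hP : IsPullback a b f g) [LocallyOfFiniteType f] (z : P) :
    UnrPt b z ↔ UnrPt f (a z) :=
  ⟨unrPt_of_baseChange hP z, isPtLocal_unrPt.bc hP z⟩

/-- Etaleness at a point of a flat morphism can be tested after any base change. -/
theorem etale_nhd_baseChange_iff {P X Y Y' : Scheme.{u}} {a : P ⟶ X} {b : P ⟶ Y'} {f : X ⟶ Y}
    {g : Y' ⟶ Y} (hP : IsPullback a b f g) [LocallyOfFinitePresentation f] (z : P)
    (hflat : FlatPt f (a z) ∨ FlatPt g (b z)) :
    (∃ U : P.Opens, z ∈ U ∧ Etale (U.ι ≫ b)) ↔ (∃ U : X.Opens, a z ∈ U ∧ Etale (U.ι ≫ f)) := by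
  rw [exists_etale_nhd_iff, exists_etale_nhd_iff, smoothPt_baseChange_iff hP z hflat,
    unrPt_baseChange_iff hP z]

end Groth.Agent.SmoothPt12
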